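import Mathlib.Data.Matrix.Mul
import Mathlib.LinearAlgebra.Matrix.Charpoly.Coeff
import Mathlib.RingTheory.AdjoinRoot
import Mathlib.RingTheory.Noetherian.Basic
import Mathlib.RingTheory.Flat.EquationalCriterion
import Mathlib.Tactic.NoncommRing
import Mathlib.Tactic.LinearCombination
import Groth.Agent.Lib.Hens.PairOps

/-!
# Approximation of projector systems: one element

A family `P i` of square matrices with `P i * P j = t j • P i` describes a vector bundle on the union of the
`D(t i)`.  We show that approximate systems are close to exact ones when one element `t` is inverted.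
-/

set_option autoImplicit false
set_option linter.style.haveILetI false

universe u

open Matrix Polynomial

namespace Groth.Agent.ElkikMod27

variable {A : Type u} [CommRing A]

/-- Bounded torsion along `t`. -/
def BddTors (t : A) (c : ℕ) : Prop := ∀ (l : ℕ) (a : A), t ^ l * a = 0 → t ^ c * a = 0

theorem exists_bddTors {A₀ : Type u} [CommRing A₀] [IsNoetherianRing A₀] [Algebra A₀ A] [Module.Flat A₀ A] (t : A₀) :
    ∃ c, BddTors (algebraMap A₀ A t) c := by
  let K : ℕ →o Submodule A₀ A₀ :=
    ⟨fun l => LinearMap.ker (LinearMap.mulLeft A₀ (t ^ l)), fun l m hlm z hz => by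
      rw [LinearMap.mem_ker, LinearMap.mulLeft_apply] at hz ⊢
      rw [← Nat.sub_add_cancel hlm, pow_add, mul_assoc, hz, mul_zero]⟩
  obtain ⟨c, hc⟩ := monotone_stabilizes_iff_noetherian.2 (inferInstance : IsNoetherian A₀ A₀) K
  refine ⟨c, fun l a ha => ?_⟩
  have ha' : ∑ i : Fin 1, (fun _ => t ^ l) i • (fun _ => a) i = (0 : A) := by
    simp [Algebra.smul_def, ha]
  obtain ⟨k, b, y, hy, hb⟩ := Module.Flat.isTrivialRelation_of_sum_smul_eq_zero ha'
  have hb' : ∀ j, t ^ c * b 0 j = 0 := fun j => by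
    have h := hb j
    simp at h
    have h2 : b 0 j ∈ K (max l c) := K.monotone (le_max_left l c) (LinearMap.mem_ker.2 h)
    rw [← hc _ (le_max_right l c)] at h2
    exact LinearMap.mem_ker.1 h2
  rw [show a = ∑ j, b 0 j • y j from hy 0, Finset.mul_sum]
  refine Finset.sum_eq_zero fun j _ => ?_
  rw [Algebra.smul_def, ← mul_assoc, ← map_pow, ← map_mul, hb', map_zero, zero_mul]

variable {n : ℕ} {κ : Type} {m : Type} [Fintype m]

theorem eq_zero_of_smul {t : A} {c : ℕ} (ht : BddTors t c) {a b : Type} {X W : Matrix a b A} {l s : ℕ}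
    (hl : t ^ l • X = 0) (hX : X = t ^ s • W) (hs : c ≤ s) : X = 0 := by
  subst hX
  ext i j
  have h := congrFun₂ hl i j
  simp only [Matrix.smul_apply, Matrix.zero_apply, smul_eq_mul] at h ⊢
  rw [← mul_assoc, ← pow_add] at h
  rw [← Nat.sub_add_cancel hs, pow_add, mul_assoc, ht _ _ h, mul_zero]

variable (I : Ideal A) [hI : HenselianRing A I]

include hI in
/-- An exact projector near an approximate one. -/
theorem exists_projector {t : A} (ht : t ∈ I) {c : ℕ} (hc : BddTors t c) (M : ℕ) (hM : 1 ≤ M)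
    (Q W : Matrix (Fin n) (Fin n) A) (hQ : Q * Q - t • Q = t ^ (M + 2 + c) • W) :
    ∃ Q' Y : Matrix (Fin n) (Fin n) A, Q' * Q' = t • Q' ∧ Q' = Q + t ^ M • Y := by
  let D : Matrix (Fin n) (Fin n) A := t ^ c • W
  have hQ' : Q * Q = t • Q + t ^ (M + 2) • D := by
    rw [show t ^ (M + 2) • D = t ^ (M + 2 + c) • W by rw [smul_smul, ← pow_add], ← hQ]; abel
  have hDQ : D * Q = Q * D := by
    have h0 : t ^ (M + 2 + c) • (W * Q - Q * W) = 0 := by
      rw [smul_sub, ← smul_mul_assoc, ← mul_smul_comm, ← hQ]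
      simp only [sub_mul, mul_sub, smul_mul_assoc, mul_smul_comm, mul_assoc]
      abel
    have h1 : t ^ c • (W * Q - Q * W) = 0 := by
      ext i j
      have h := congrFun₂ h0 i j
      simp only [Matrix.smul_apply, Matrix.zero_apply, smul_eq_mul] at h ⊢
      exact hc _ _ h
    rw [← sub_eq_zero, show D * Q - Q * D = t ^ c • (W * Q - Q * W) by simp [D, smul_sub], h1]
  let R := AdjoinRoot D.charpoly
  have hmon := D.charpoly_monic
  haveI : Module.Finite A R := hmon.finite_adjoinRoot
  haveI : HenselianRing R (I.map (algebraMap A R)) := Hens.henselianRing_of_isIntegral hI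
  let ψ : R →ₐ[A] Matrix (Fin n) (Fin n) A := Ideal.Quotient.liftₐ (Ideal.span {D.charpoly}) (Polynomial.aeval D)
    fun p hp => by
      obtain ⟨q, rfl⟩ := Ideal.mem_span_singleton.1 hp
      rw [map_mul, D.aeval_self_charpoly, zero_mul]
  have hψ : ψ (AdjoinRoot.root D.charpoly) = D :=
    (Ideal.Quotient.liftₐ_apply _ _ _ _).trans (Polynomial.aeval_X D)
  have hcomm : ∀ z : R, ψ z * Q = Q * ψ z := fun z => by
    obtain ⟨p, rfl⟩ := AdjoinRoot.mk_surjective z
    rw [show ψ (AdjoinRoot.mk D.charpoly p) = Polynomial.aeval D p from Ideal.Quotient.liftₐ_apply _ _ _ _]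
    induction p using Polynomial.induction_on' with
    | add p q hp hq => rw [map_add, add_mul, mul_add, hp, hq]
    | monomial k a =>
      rw [Polynomial.aeval_monomial, mul_assoc, show D ^ k * Q = Q * D ^ k from (Commute.pow_left hDQ k).eq, ← mul_assoc,
        Algebra.commutes, mul_assoc]
  let T : R := algebraMap A R (t ^ M)
  let z : R := T * AdjoinRoot.root D.charpoly
  have hTI : T ∈ I.map (algebraMap A R) := Ideal.mem_map_of_mem _ (Ideal.pow_mem_of_mem I ht M hM)
  have hzI : z ∈ I.map (algebraMap A R) := Ideal.mul_mem_right _ _ hTI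
  have hu4 : IsUnit (1 + 4 * z) := by
    have h := Ideal.mem_jacobson_bot.1 (HenselianRing.jac hzI) 4
    rwa [add_comm, mul_comm]
  obtain ⟨v, hv⟩ := hu4.exists_right_inv
  let f : R[X] := X ^ 2 - X + C (z * v)
  have hf : f.Monic := by
    rw [show f = X ^ 2 + (C (z * v) - X) by simp [f]; ring]
    exact monic_X_pow_add (lt_of_le_of_lt (degree_sub_le _ _)
      (max_lt (lt_of_le_of_lt degree_C_le (by decide)) (lt_of_le_of_lt degree_X_le (by decide))))
  obtain ⟨x, hx, hxI⟩ := HenselianRing.is_henselian (I := I.map (algebraMap A R)) f hf 0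
    (by simpa [f] using Ideal.mul_mem_right v _ hzI) (by simp [f])
  rw [sub_zero] at hxI
  have hx' : x ^ 2 - x + z * v = 0 := by simpa [f, IsRoot] using hx
  obtain ⟨w, hw⟩ : ∃ w, (1 - x) * w = 1 := by
    have h := Ideal.mem_jacobson_bot.1 (HenselianRing.jac hxI) (-1)
    exact IsUnit.exists_right_inv (by convert h using 1; ring)
  let y : R := AdjoinRoot.root D.charpoly * v * w
  have hxy : x = T * y := by
    have : x * (1 - x) = z * v := by linear_combination (-1 : R) * hx'
    calc x = x * (1 - x) * w := by rw [mul_assoc, hw, mul_one]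
      _ = T * y := by rw [this]; ring
  have hkey : z + (1 + 4 * z) * (x * x - x) = 0 := by
    linear_combination (1 + 4 * z) * hx' - z * hv
  let Xm := ψ x
  let Z := ψ z
  have hZ : Z = t ^ M • D := by
    show ψ (T * _) = _
    rw [map_mul, hψ, AlgHom.commutes, ← Algebra.smul_def]
  have hkey' : Z + (1 + 4 * Z) * (Xm * Xm - Xm) = 0 := by
    have h := congrArg ψ hkey
    simpa only [map_add, map_sub, map_mul, map_one, map_ofNat, map_zero] using h
  refine ⟨Q + (t • (1 : Matrix (Fin n) (Fin n) A) - (2 : A) • Q) * Xm, (t • (1 : Matrix (Fin n) (Fin n) A) - (2 : A) • Q) * ψ y,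
    ?_, ?_⟩
  · set N := t • (1 : Matrix (Fin n) (Fin n) A) - (2 : A) • Q with hN
    have hXQ : Xm * Q = Q * Xm := hcomm x
    have hXN : Xm * N = N * Xm := by
      simp only [hN, mul_sub, sub_mul, mul_smul_comm, smul_mul_assoc, mul_one, one_mul, hXQ]
    have hNN : N * N = t ^ 2 • (1 + 4 * Z) := by
      simp only [hN, mul_sub, sub_mul, mul_smul_comm, smul_mul_assoc, mul_one, one_mul, hQ', hZ, smul_add, smul_sub, smul_smul]
      rw [show (4 : Matrix (Fin n) (Fin n) A) * D = (4 : A) • D by rw [Algebra.smul_def, map_ofNat]]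
      module
    have hQN : Q * N + N * Q - t • N = (-(t ^ 2) : A) • (1 + 4 * Z) := by
      rw [neg_smul, ← hNN]
      simp only [hN, mul_sub, sub_mul, mul_smul_comm, smul_mul_assoc, mul_one, one_mul, smul_sub, smul_smul]
      module
    have hrearr : (Q + N * Xm) * (Q + N * Xm) - t • (Q + N * Xm) =
        (Q * Q - t • Q) + (Q * N + N * Q - t • N) * Xm + N * N * (Xm * Xm) := by
      rw [mul_add, add_mul, add_mul, mul_assoc N Xm Q, hXQ, ← mul_assoc N Q Xm, ← mul_assoc Q N Xm,
        mul_assoc N Xm (N * Xm), ← mul_assoc Xm N Xm, hXN, mul_assoc N Xm Xm, ← mul_assoc N N (Xm * Xm)]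
      simp only [smul_add, add_mul, sub_mul, smul_mul_assoc]
      abel
    rw [← sub_eq_zero, hrearr, hNN, hQN, hQ', add_sub_cancel_left,
      show t ^ (M + 2) • D = t ^ 2 • Z by rw [hZ, smul_smul _ _ D, ← pow_add, Nat.add_comm 2 M]]
    have h2 := congrArg (t ^ 2 • ·) hkey'
    simp only [smul_zero] at h2
    rw [← h2]
    simp only [mul_sub, smul_sub, smul_add, add_mul, one_mul, smul_mul_assoc, neg_smul, neg_mul]
    abel
  · congr 1
    show _ = t ^ M • _
    rw [← mul_smul_comm]
    congr 1
    show ψ x = _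
    rw [hxy, map_mul, AlgHom.commutes, ← Algebra.smul_def]

end Groth.Agent.ElkikMod27
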