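import Groth.Agent.Lib.ElkikMod27.Module
import Groth.Agent.Lib.RamSam27.Extend
import Groth.Agent.Lib.FormalH7.CplRing
import Groth.Agent.Lib.CplLocH7.Basic
import Groth.Agent.Lib.RamSam27.Geometric
import Mathlib.RingTheory.AdicCompletion.LocalRing

/-!
# Approximation along adic completions and completion of local henselian rings
-/

set_option autoImplicit false
set_option linter.style.haveILetI false

universe u

open IsLocalRing TensorProduct

namespace Groth.Agent.ElkikMod27

open Groth.Agent.CIPic27 Groth.Agent.CplLocH7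

/-- Elkik's theorem for the adic completion. -/
theorem exists_model_completion {A₀ A : Type u} [CommRing A₀] [IsNoetherianRing A₀] [CommRing A] [Algebra A₀ A]
    [Module.Flat A₀ A] (I₀ : Ideal A₀) (I : Ideal A) (hI : I = I₀.map (algebraMap A₀ A)) [HenselianRing A I]
    [IsNoetherianRing (AdicCompletion I A)]
    (Mb : Type u) [AddCommGroup Mb] [Module (AdicCompletion I A) Mb] [Module.Finite (AdicCompletion I A) Mb]
    (hfree : ∀ (p : Ideal (AdicCompletion I A)) [p.IsPrime], ¬ I.map (algebraMap A (AdicCompletion I A)) ≤ p →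
      Module.Projective (Localization.AtPrime p) (LocalizedModule p.primeCompl Mb)) :
    ∃ (M : Type u) (_ : AddCommGroup M) (_ : Module A M), Module.Finite A M ∧ Module.FinitePresentation A M ∧
      Nonempty (AdicCompletion I A ⊗[A] M ≃ₗ[AdicCompletion I A] Mb) ∧ ∀ q : PrimeSpectrum A, ¬ I ≤ q.asIdeal →
        ∃ (n : ℕ) (π₀ : (Fin n → A) →ₗ[A] M) (σ : M →ₗ[A] (Fin n → A)) (s : A),
          Function.Surjective π₀ ∧ s ∉ q.asIdeal ∧ π₀ ∘ₗ σ = s • LinearMap.id := by
  subst hI
  have hfg : (I₀.map (algebraMap A₀ A)).FG := Ideal.FG.map (IsNoetherian.noetherian I₀) _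
  refine exists_approx_module I₀ (S := AdicCompletion (I₀.map (algebraMap A₀ A)) A) ?_ (fun N x => ?_)
    (fun N a ha => ?_) Mb hfree
  · haveI := AdicCompletion.isAdicComplete_self _ hfg
    exact IsAdicComplete.le_jacobson_bot _
  · obtain ⟨a, ha⟩ := Ideal.Quotient.mk_surjective (AdicCompletion.evalₐ _ N x)
    refine ⟨a, (FormalH7.ker_evalₐ_eq_map (I₀.map (algebraMap A₀ A)) hfg N).le (RingHom.mem_ker.2 ?_)⟩
    show AdicCompletion.evalₐ _ N (x - algebraMap A _ a) = 0
    rw [map_sub, AlgHom.commutes, ← ha]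
    exact sub_self _
  · have h : AdicCompletion.evalₐ (I₀.map (algebraMap A₀ A)) N (algebraMap A _ a) = 0 :=
      RingHom.mem_ker.1 ((FormalH7.ker_evalₐ_eq_map (I₀.map (algebraMap A₀ A)) hfg N).ge ha)
    rw [AlgHom.commutes] at h
    exact Ideal.Quotient.eq_zero_iff_mem.1 h

/-- A module free of rank one at the closed point is free. -/
theorem nonempty_equiv_of_free1 {E : Type u} [CommRing E] [IsLocalRing E] {N : Type u} [AddCommGroup N] [Module E N]
    (h : Free1 E N (IsLocalRing.closedPoint E)) : Nonempty (N ≃ₗ[E] E) := by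
  obtain ⟨u, s, hs, h1, h2⟩ := h
  have hsu : IsUnit s := notMem_maximalIdeal.1 hs
  refine ⟨(LinearEquiv.ofBijective (LinearMap.toSpanSingleton E N u)
    ⟨(injective_iff_map_eq_zero _).2 fun c hc => hsu.mul_right_eq_zero.1 (h2 c hc), fun z => ?_⟩).symm⟩
  obtain ⟨c, hc⟩ := h1 z
  obtain ⟨v, rfl⟩ := hsu
  exact ⟨↑v⁻¹ * c, by
    show (↑v⁻¹ * c) • u = z
    rw [mul_smul, ← hc, smul_smul, v.inv_mul, one_smul]⟩

/-- Free of rank one near a prime gives a free localized module. -/
theorem projective_localized_of_free1 {S : Type u} [CommRing S] {N : Type u} [AddCommGroup N] [Module S N]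
    (p : PrimeSpectrum S) (h : Free1 S N p) :
    Module.Projective (Localization.AtPrime p.asIdeal) (LocalizedModule p.asIdeal.primeCompl N) := by
  let L := Localization.AtPrime p.asIdeal
  have hcl : PrimeSpectrum.comap (algebraMap S L) (IsLocalRing.closedPoint L) = p :=
    PrimeSpectrum.ext (Localization.AtPrime.comap_maximalIdeal)
  obtain ⟨e⟩ := nonempty_equiv_of_free1 (free1_baseChange (S := L) (IsLocalRing.closedPoint L) (hcl.symm ▸ h))
  have e' : LocalizedModule p.asIdeal.primeCompl N ≃ₗ[L] L ⊗[S] N :=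
    (((isLocalizedModule_iff_isBaseChange p.asIdeal.primeCompl L (LocalizedModule.mkLinearMap p.asIdeal.primeCompl N)).1
      inferInstance).equiv).symm
  exact Module.Projective.of_equiv (e'.trans e).symm

/-- **Completion preserves triviality of the punctured Picard group of a henselian local ring.** -/
theorem ptm_cpl (R : Type u) [CommRing R] [IsNoetherianRing R] [HenselianLocalRing R]
    (hR : PTm R) : PTm (Cpl R) := by
  haveI := faithfullyFlat_cpl R
  haveI := Compl.isNoetherianRing_maximalIdeal_adicCompletion R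
  haveI : HenselianRing R (maximalIdeal R) := Hens.henselianRing_maximalIdeal R
  intro N _ _ _ hN
  have hm : (maximalIdeal R).map (algebraMap R (Cpl R)) = maximalIdeal (Cpl R) := (maximalIdeal_cpl R).symm
  obtain ⟨M, _, _, hfin, -, ⟨eM⟩, -⟩ := exists_model_completion (A₀ := R) (A := R) (maximalIdeal R) (maximalIdeal R)
    (by rw [Algebra.algebraMap_self, Ideal.map_id]) N fun p _ hp =>
      projective_localized_of_free1 ⟨p, ‹_›⟩ (hN _ (fun h => hp (hm.le.trans h)))
  have hM : FreeOff R M := fun q hq => by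
    obtain ⟨Q, hQ⟩ := PrimeSpectrum.comap_surjective_of_faithfullyFlat (A := R) (B := Cpl R) q
    subst hQ
    have hQ' : ¬ maximalIdeal (Cpl R) ≤ Q.asIdeal := fun h => hq (Ideal.map_le_iff_le_comap.1 (hm.le.trans h))
    let Rq := Localization.AtPrime (PrimeSpectrum.comap (algebraMap R (Cpl R)) Q).asIdeal
    let SQ := Localization.AtPrime Q.asIdeal
    letI : Algebra Rq SQ := (Localization.localRingHom _ Q.asIdeal (algebraMap R (Cpl R)) rfl).toAlgebra
    haveI : IsScalarTower R Rq SQ := .of_algebraMap_eq fun r => by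
      rw [IsScalarTower.algebraMap_apply R (Cpl R) SQ]
      exact (Localization.localRingHom_to_map _ Q.asIdeal (algebraMap R (Cpl R)) rfl r).symm
    haveI : IsLocalHom (algebraMap Rq SQ) := Localization.isLocalHom_localRingHom _ Q.asIdeal _ rfl
    haveI : Module.Flat (Cpl R) SQ := IsLocalization.flat _ Q.asIdeal.primeCompl
    haveI : Module.Flat R SQ := Module.Flat.trans R (Cpl R) SQ
    haveI : Module.Flat Rq SQ :=
      (Module.flat_iff_of_isLocalization Rq (PrimeSpectrum.comap (algebraMap R (Cpl R)) Q).asIdeal.primeCompl SQ).2 inferInstance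
    haveI : Module.FaithfullyFlat Rq SQ := Module.FaithfullyFlat.of_flat_of_isLocalHom
    haveI : IsNoetherianRing Rq := IsLocalization.isNoetherianRing
      (PrimeSpectrum.comap (algebraMap R (Cpl R)) Q).asIdeal.primeCompl _ inferInstance
    have hcl : PrimeSpectrum.comap (algebraMap (Cpl R) SQ) (IsLocalRing.closedPoint SQ) = Q :=
      PrimeSpectrum.ext (Localization.AtPrime.comap_maximalIdeal)
    obtain ⟨e⟩ := nonempty_equiv_of_free1
      (free1_baseChange (S := SQ) (IsLocalRing.closedPoint SQ) (hcl.symm ▸ hN Q hQ'))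
    let e₂ : SQ ⊗[Rq] (Rq ⊗[R] M) ≃ₗ[SQ] SQ :=
      (TensorProduct.AlgebraTensorModule.cancelBaseChange R Rq SQ SQ M).trans
        ((TensorProduct.AlgebraTensorModule.cancelBaseChange R (Cpl R) SQ SQ M).symm.trans
          ((eM.baseChange (Cpl R) SQ).trans e))
    obtain ⟨e₃⟩ := nonempty_equiv_of_tensor e₂
    exact RamSam27.free1_of_tensor_equiv _ e₃
  obtain ⟨e⟩ := hR M hM
  exact ⟨(LinearEquiv.dualMap eM).trans ((LinearMap.liftBaseChangeEquiv (Cpl R)).symm.trans
    ((LinearEquiv.ofBijective _ (homComparison_bijective R (Cpl R) (N := M))).symm.trans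
      ((e.baseChange R (Cpl R)).trans (TensorProduct.AlgebraTensorModule.rid R (Cpl R) (Cpl R)))))⟩

end Groth.Agent.ElkikMod27
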