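import Groth.Agent.Lib.ElkikMod27.Systems
import Mathlib.Algebra.Module.FinitePresentation
import Mathlib.RingTheory.Filtration
import Mathlib.RingTheory.Nakayama
import Mathlib.LinearAlgebra.Matrix.NonsingularInverse

/-!
# Elkik approximation for modules which are projective off a closed set
-/

set_option autoImplicit false
set_option linter.style.haveILetI false

universe u

open Matrix TensorProduct

namespace Groth.Agent.ElkikMod27

variable {S : Type u} [CommRing S]

/-- Sections of a surjection, up to a power of any element in the locus of projectivity. -/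
theorem exists_pow_section [IsNoetherianRing S] {Mb : Type u} [AddCommGroup Mb] [Module S Mb] [Module.Finite S Mb]
    (J : Ideal S) (hfree : ∀ (p : Ideal S) [p.IsPrime], ¬ J ≤ p →
      Module.Projective (Localization.AtPrime p) (LocalizedModule p.primeCompl Mb))
    {n : ℕ} (π : (Fin n → S) →ₗ[S] Mb) (hπ : Function.Surjective π) (a : S) (ha : a ∈ J) :
    ∃ (k : ℕ) (σ : Mb →ₗ[S] (Fin n → S)), π ∘ₗ σ = a ^ k • LinearMap.id := by
  classical
  let K : Ideal S :=
    { carrier := {s | ∃ σ : Mb →ₗ[S] (Fin n → S), π ∘ₗ σ = s • LinearMap.id}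
      zero_mem' := ⟨0, by simp⟩
      add_mem' := by
        rintro s t ⟨σ, hσ⟩ ⟨τ, hτ⟩
        exact ⟨σ + τ, by rw [LinearMap.comp_add, hσ, hτ, add_smul]⟩
      smul_mem' := by
        rintro c s ⟨σ, hσ⟩
        exact ⟨c • σ, by rw [LinearMap.comp_smul, hσ, smul_eq_mul, mul_smul]⟩ }
  suffices h : a ∈ K.radical from h
  rw [Ideal.radical_eq_sInf, Submodule.mem_sInf]
  rintro (p : Ideal S) ⟨hle, hp⟩
  haveI : p.IsPrime := hp
  by_contra hap
  haveI := hfree p fun h => hap (h ha)
  haveI : Module.FinitePresentation S Mb := Module.finitePresentation_of_finite S Mb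
  let W := p.primeCompl
  let f := LocalizedModule.mkLinearMap W (Fin n → S)
  let g := LocalizedModule.mkLinearMap W Mb
  let πp : LocalizedModule W (Fin n → S) →ₗ[Localization.AtPrime p] LocalizedModule W Mb := LocalizedModule.map W π
  have hπg : ∀ v, πp (f v) = g (π v) := fun v => by
    simp only [πp, f, g, LocalizedModule.mkLinearMap_apply, LocalizedModule.map_mk]
  have hπp : Function.Surjective πp := fun z => by
    induction z using LocalizedModule.induction_on with
    | _ m s =>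
      obtain ⟨v, rfl⟩ := hπ m
      exact ⟨LocalizedModule.mk v s, LocalizedModule.map_mk ..⟩
  obtain ⟨τ, hτ⟩ := Module.projective_lifting_property πp LinearMap.id hπp
  obtain ⟨h, s, hs⟩ := Module.FinitePresentation.exists_lift_of_isLocalizedModule W f
    ((τ.restrictScalars S) ∘ₗ g)
  have hzero : ∀ m, g (π (h m) - (s : S) • m) = 0 := fun m => by
    have h1 := LinearMap.congr_fun hs m
    simp only [LinearMap.comp_apply, LinearMap.smul_apply, LinearMap.restrictScalars_apply] at h1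
    rw [map_sub, ← hπg, h1, Submonoid.smul_def, LinearMap.map_smul_of_tower, map_smul,
      show πp (τ (g m)) = g m from LinearMap.congr_fun hτ (g m), sub_self]
  obtain ⟨T, hT⟩ := Module.Finite.fg_top (R := S) (M := Mb)
  choose w hw using fun m => (IsLocalizedModule.eq_zero_iff W g).1 (hzero m)
  refine (hp.mem_or_mem (hle (show (∏ m ∈ T, (w m : S)) * s ∈ K from ⟨(∏ m ∈ T, (w m : S)) • h, ?_⟩))).elim (fun h' => ?_) s.2
  · refine LinearMap.ext_on hT fun m hm => ?_
    have h0 : (∏ x ∈ T, (w x : S)) • (π (h m) - (s : S) • m) = 0 := by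
      rw [← Finset.prod_erase_mul T _ hm, mul_smul]
      have := hw m
      rw [Submonoid.smul_def] at this
      rw [this, smul_zero]
    rw [smul_sub, sub_eq_zero, ← mul_smul] at h0
    simpa using h0
  · obtain ⟨m, -, hm⟩ := (hp.prod_mem_iff).1 h'
    exact (w m).2 hm

/-- Torsion along a finitely generated ideal does not meet a high power of it. -/
theorem exists_pow_inf_torsion [IsNoetherianRing S] {Mb : Type u} [AddCommGroup Mb] [Module S Mb] [Module.Finite S Mb]
    (J : Ideal S) : ∃ e : ℕ, ∀ (x : Mb) (l : ℕ), x ∈ J ^ e • (⊤ : Submodule S Mb) → (∀ a ∈ J ^ l, a • x = 0) → x = 0 := by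
  let T : ℕ →o Submodule S Mb :=
    ⟨fun l => Submodule.torsionBySet S Mb (↑(J ^ l) : Set S), fun l m hlm x hx => by
      rw [Submodule.mem_torsionBySet_iff] at hx ⊢
      exact fun a => hx ⟨a, Ideal.pow_le_pow_right hlm a.2⟩⟩
  obtain ⟨L, hL⟩ := monotone_stabilizes_iff_noetherian.2 (inferInstance : IsNoetherian S Mb) T
  obtain ⟨k, hk⟩ := Ideal.exists_pow_inf_eq_pow_smul J (T L)
  refine ⟨k + L, fun x l hx hxl => ?_⟩
  have hxT : x ∈ T L := by
    rw [hL (max l L) (le_max_right _ _)]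
    exact T.monotone (le_max_left l L) ((Submodule.mem_torsionBySet_iff _ _).2 fun a => hxl a a.2)
  have h := (hk (k + L) (by omega)).le ⟨hx, hxT⟩
  rw [Nat.add_sub_cancel_left] at h
  refine Submodule.smul_induction_on h (fun a ha y hy => ?_) fun y z hy hz => by rw [hy, hz, add_zero]
  exact (Submodule.mem_torsionBySet_iff _ _).1 hy.2 ⟨a, ha⟩

/-- Congruences act on vectors. -/
theorem Cong.mulVec_sub_mem {J : Ideal S} {a : Type} {m : Type} [Fintype m] [Fintype a] [DecidableEq a] {X Y : Matrix a m S}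
    (h : Cong J X Y) (v : m → S) : X *ᵥ v - Y *ᵥ v ∈ J • (⊤ : Submodule S (a → S)) := by
  rw [← Matrix.sub_mulVec, show ((X - Y) *ᵥ v) = ∑ i, ((X - Y) *ᵥ v) i • (Pi.single i 1 : a → S) by
    funext j; simp [Pi.single_apply]]
  refine Submodule.sum_mem _ fun i _ => Submodule.smul_mem_smul (Ideal.sum_mem _ fun k _ => ?_) trivial
  exact Ideal.mul_mem_right _ _ (h i k)

set_option maxHeartbeats 4000000 in
/-- **Elkik's approximation theorem for modules projective off a closed set.** -/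
theorem exists_approx_module {A₀ A S : Type u} [CommRing A₀] [IsNoetherianRing A₀] [CommRing A] [Algebra A₀ A]
    [Module.Flat A₀ A] (I₀ : Ideal A₀) [hA : HenselianRing A (I₀.map (algebraMap A₀ A))] [CommRing S] [Algebra A S]
    [IsNoetherianRing S] (hjac : ((I₀.map (algebraMap A₀ A)).map (algebraMap A S)) ≤ Ideal.jacobson ⊥)
    (happ : ∀ (N : ℕ) (x : S), ∃ a : A, x - algebraMap A S a ∈ (I₀.map (algebraMap A₀ A) ^ N).map (algebraMap A S))
    (hker : ∀ (N : ℕ) (a : A), algebraMap A S a ∈ (I₀.map (algebraMap A₀ A) ^ N).map (algebraMap A S) →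
      a ∈ I₀.map (algebraMap A₀ A) ^ N)
    (Mb : Type u) [AddCommGroup Mb] [Module S Mb] [Module.Finite S Mb]
    (hfree : ∀ (p : Ideal S) [p.IsPrime], ¬ (I₀.map (algebraMap A₀ A)).map (algebraMap A S) ≤ p →
      Module.Projective (Localization.AtPrime p) (LocalizedModule p.primeCompl Mb)) :
    ∃ (M : Type u) (_ : AddCommGroup M) (_ : Module A M), Module.Finite A M ∧ Module.FinitePresentation A M ∧
      Nonempty (S ⊗[A] M ≃ₗ[S] Mb) ∧ ∀ q : PrimeSpectrum A, ¬ I₀.map (algebraMap A₀ A) ≤ q.asIdeal →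
        ∃ (n : ℕ) (π₀ : (Fin n → A) →ₗ[A] M) (σ : M →ₗ[A] (Fin n → A)) (s : A),
          Function.Surjective π₀ ∧ s ∉ q.asIdeal ∧ π₀ ∘ₗ σ = s • LinearMap.id := by
  classical
  let I := I₀.map (algebraMap A₀ A)
  let φ := algebraMap A S
  obtain ⟨n, π, hπ⟩ := Module.Finite.exists_fin' S Mb
  obtain ⟨r, a, ha⟩ := Submodule.fg_iff_exists_fin_generating_family.1 (IsNoetherian.noetherian I₀)
  have haI : ∀ i, algebraMap A₀ A (a i) ∈ I := fun i => Ideal.mem_map_of_mem _ (ha ▸ Submodule.subset_span ⟨i, rfl⟩)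
  choose k₀ σ₀ hσ₀ using fun i => exists_pow_section (I.map φ) hfree π hπ (φ (algebraMap A₀ A (a i)))
    (Ideal.mem_map_of_mem _ (haI i))
  let k := ∑ i, k₀ i + 1
  let t : Fin r → A₀ := fun i => a i ^ k
  let tA : Fin r → A := fun i => algebraMap A₀ A (t i)
  let tS : Fin r → S := fun i => φ (tA i)
  have hk : ∀ i, k₀ i ≤ k := fun i => (Finset.single_le_sum (fun j _ => Nat.zero_le (k₀ j)) (Finset.mem_univ i)).trans
    (Nat.le_succ _)
  let σ : Fin r → (Mb →ₗ[S] (Fin n → S)) := fun i => φ (algebraMap A₀ A (a i)) ^ (k - k₀ i) • σ₀ i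
  have hσ : ∀ i x, π (σ i x) = tS i • x := fun i x => by
    have h := LinearMap.congr_fun (hσ₀ i) x
    simp only [LinearMap.comp_apply, LinearMap.smul_apply, LinearMap.id_apply] at h
    simp only [σ, LinearMap.smul_apply, map_smul, h, smul_smul, tS, tA, t, ← pow_add, Nat.sub_add_cancel (hk i), map_pow]
  -- the two ideals
  have htle : tI A t ≤ I := Ideal.span_le.2 (by
    rintro _ ⟨i, rfl⟩
    show algebraMap A₀ A (a i ^ k) ∈ I
    rw [map_pow]
    exact Ideal.pow_mem_of_mem _ (haI i) k (Nat.succ_pos _))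
  haveI : HenselianRing A (tI A t) := Hens.henselianRing_of_le hA htle
  obtain ⟨k', hk'⟩ : ∃ k', I ^ k' ≤ tI A t := Ideal.exists_pow_le_of_le_radical_of_fg
    (Ideal.map_le_iff_le_comap.2 (ha ▸ Submodule.span_le.2 (by
      rintro _ ⟨i, rfl⟩
      exact ⟨k, by rw [← map_pow]; exact Ideal.subset_span ⟨i, rfl⟩⟩)))
    (Ideal.FG.map (IsNoetherian.noetherian I₀) (algebraMap A₀ A))
  let J : Ideal S := tI S tS
  have hJ : J = (tI A t).map φ := by
    rw [Ideal.map_span, ← Set.range_comp]; rfl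
  have hJjac : J ≤ Ideal.jacobson ⊥ := hJ ▸ (Ideal.map_mono htle).trans hjac
  -- the data over `S`
  let Pb : Fin r → Matrix (Fin n) (Fin n) S := fun i => LinearMap.toMatrix' (σ i ∘ₗ π)
  have hPbv : ∀ i v, Pb i *ᵥ v = σ i (π v) := fun i v => by
    simp only [Pb, ← Matrix.toLin'_apply, Matrix.toLin'_toMatrix']
    rfl
  have hPb : Sol tS Pb := fun i j => Matrix.toLin'.injective (LinearMap.ext fun v => by
    simp only [map_smul, LinearMap.smul_apply, Matrix.toLin'_apply, ← Matrix.mulVec_mulVec, hPbv, hσ])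
  obtain ⟨q, dv, hdv⟩ := Submodule.fg_iff_exists_fin_generating_family.1 (IsNoetherian.noetherian (LinearMap.ker π))
  let Db : Matrix (Fin n) (Fin q) S := Matrix.of fun p l => dv l p
  have hDb : ∀ i, Pb i * Db = 0 := fun i => Matrix.ext fun p l => by
    have h1 : (Pb i *ᵥ dv l) p = 0 := by
      rw [hPbv, LinearMap.mem_ker.1 (hdv.le (Submodule.subset_span ⟨l, rfl⟩) : dv l ∈ LinearMap.ker π), map_zero]; rfl
    exact h1
  -- bounds
  obtain ⟨e₁, he₁⟩ := exists_pow_inf_torsion (Mb := Mb) J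
  obtain ⟨e₂, he₂⟩ := Ideal.exists_pow_inf_eq_pow_smul J (LinearMap.ker π)
  let e := e₁ + e₂ + 1
  obtain ⟨N₁, hN₁⟩ := exists_conj_aux Finset.univ S tS (by simp) n e
  obtain ⟨N, hN⟩ := exists_sol_aux Finset.univ A₀ A t (by simp) n (Fin q) (max e N₁)
  have hkey : I ^ (k' * (max N (max e N₁))) ≤ tI A t ^ (max N (max e N₁)) := by
    rw [pow_mul]; exact Ideal.pow_right_mono hk' _
  let L := k' * (max N (max e N₁))
  have hL : ∀ {p : ℕ}, p ≤ max N (max e N₁) → (I ^ L).map φ ≤ J ^ p := fun {p} hp => by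
    have h := le_trans hkey (Ideal.pow_le_pow_right (I := tI A t) hp)
    rw [hJ]
    exact (Ideal.map_mono (f := φ) h).trans (le_of_eq (Ideal.map_pow φ _ _))
  choose P₀ hP₀ using fun i p p' => happ L (Pb i p p')
  choose D₀ hD₀ using fun p l => happ L (Db p l)
  let P : Fin r → Matrix (Fin n) (Fin n) A := fun i => Matrix.of (P₀ i)
  let D : Matrix (Fin n) (Fin q) A := Matrix.of D₀
  have hPc : ∀ i, Cong ((I ^ L).map φ) (Pb i) ((P i).map φ) := hP₀
  have hDc : Cong ((I ^ L).map φ) Db (D.map φ) := hD₀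
  have hsm : ∀ {α β : Type} (x : A) (X : Matrix α β A), φ x • X.map φ = (x • X).map φ := fun x X =>
    Matrix.ext fun p p' => (map_mul φ _ _).symm
  have hback : ∀ {α β : Type} {X Y : Matrix α β A}, Cong ((I ^ L).map φ) (X.map φ) (Y.map φ) → Cong (tI A t ^ N) X Y :=
    fun {α β X Y} h p p' => (hkey.trans (Ideal.pow_le_pow_right (le_max_left _ _)))
      (hker L _ (by rw [map_sub]; exact h p p'))
  obtain ⟨P', D', hsol, hPD, hP'c, hD'c⟩ := hN P D
    (fun i j => hback (by
      rw [Matrix.map_mul, ← hsm]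
      exact ((hPc i).symm.mul (hPc j).symm).trans ((hPb i j ▸ Cong.refl _ : Cong _ (Pb i * Pb j) (φ (tA j) • Pb i)).trans
        ((hPc i).smul _))))
    (fun i => hback (by
      rw [Matrix.map_mul, Matrix.map_zero φ (map_zero φ)]
      exact ((hPc i).symm.mul hDc.symm).trans (hDb i ▸ Cong.refl _)))
  have hmapc : ∀ {α β : Type} {X Y : Matrix α β A} {p : ℕ}, Cong (tI A t ^ p) X Y → Cong (J ^ p) (X.map φ) (Y.map φ) :=
    fun {α β X Y p} h i j => by
      rw [hJ, ← Ideal.map_pow, Matrix.map_apply, Matrix.map_apply, ← map_sub]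
      exact Ideal.mem_map_of_mem φ (h i j)
  have hP'S : Sol tS fun i => (P' i).map φ := fun i j => by
    rw [← Matrix.map_mul, hsol i j, hsm]
  have hP'b : ∀ p, p ≤ max e N₁ → ∀ i, Cong (J ^ p) ((P' i).map φ) (Pb i) := fun p hp i =>
    (((hmapc (hP'c i))).mono (Ideal.pow_le_pow_right hp)).trans ((hPc i).symm.mono (hL (hp.trans (le_max_right _ _))))
  have hD'b : Cong (J ^ e) (D'.map φ) Db :=
    ((hmapc hD'c).mono (Ideal.pow_le_pow_right (le_max_left _ _))).trans
      (hDc.symm.mono (hL ((le_max_left _ _).trans (le_max_right _ _))))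
  obtain ⟨u, hu, hu1⟩ := hN₁ (fun i => (P' i).map φ) Pb hP'S hPb fun i => hP'b N₁ (le_max_right _ _) i
  have hJe : J ^ e ≤ Ideal.jacobson ⊥ := (Ideal.pow_le_self (by omega)).trans hJjac
  have hudet : IsUnit u.det := by
    refine Hens.isUnit_of_isUnit_mk hJe ?_
    rw [RingHom.map_det, show (Ideal.Quotient.mk (J ^ e)).mapMatrix u = 1 from ?_, Matrix.det_one]
    · exact isUnit_one
    · rw [RingHom.mapMatrix_apply, cong_iff_map_eq.1 hu1, Matrix.map_one _ (map_zero _) (map_one _)]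
  -- the columns
  let cv : Fin q → (Fin n → A) := fun l p => D' p l
  let Cm : Fin r → Matrix (Fin n) (Fin n) A := fun i => tA i • 1 - P' i
  let rel : (Fin r × Fin n) ⊕ Fin q → (Fin n → A) := Sum.elim (fun x => Cm x.1 *ᵥ Pi.single x.2 1) cv
  let R₀ : Submodule A (Fin n → A) := Submodule.span A (Set.range rel)
  let M := (Fin n → A) ⧸ R₀
  haveI : Module.FinitePresentation A M := Module.finitePresentation_of_surjective R₀.mkQ R₀.mkQ_surjective
    (by rw [Submodule.ker_mkQ]; exact Submodule.fg_span (Set.finite_range _))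
  let ev : (Fin n → A) → (Fin n → S) := fun v p => φ (v p)
  have hev : ∀ (X : Matrix (Fin n) (Fin n) A) v, ev (X *ᵥ v) = X.map φ *ᵥ ev v := fun X v => funext fun p =>
    RingHom.map_mulVec φ X v p
  -- the relations die in `Mb`
  have htor : ∀ w : Fin n → S, (∀ i, (tS i * tS i) • π w = 0) → π w ∈ J ^ e₁ • (⊤ : Submodule S Mb) → π w = 0 := by
    intro w h1 h2
    let An : Ideal S := LinearMap.ker (LinearMap.toSpanSingleton S Mb (π w))
    obtain ⟨l, hl⟩ := Ideal.exists_pow_le_of_le_radical_of_fg (I := J) (J := An)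
      (Ideal.span_le.2 (by
        rintro _ ⟨i, rfl⟩
        refine ⟨2, ?_⟩
        rw [pow_two]
        exact LinearMap.mem_ker.2 (h1 i))) (Submodule.fg_span (Set.finite_range _))
    exact he₁ _ l h2 fun x hx => LinearMap.mem_ker.1 (hl hx)
  have hrelS : ∀ x, ∀ w, w = u *ᵥ ev (rel x) → π w = 0 := by
    rintro x w rfl
    refine htor _ (fun i => ?_) ?_
    · rw [mul_smul, ← hσ, ← map_smul, ← hPbv, Matrix.mulVec_smul]
      have h0 : ∀ v : Fin n → S, tS i • (Pb i *ᵥ (u *ᵥ v)) = Pb i *ᵥ (u *ᵥ ((P' i).map φ *ᵥ v)) := fun v => by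
        have h := congrArg (· *ᵥ v) (hu i i)
        simp only [Matrix.zero_mulVec, ← Matrix.mulVec_mulVec, Matrix.sub_mulVec, Matrix.smul_mulVec, Matrix.one_mulVec,
          Matrix.mulVec_sub, Matrix.mulVec_smul, sub_eq_zero] at h
        exact h
      rw [h0]
      rcases x with ⟨j, l⟩ | l
      · have hPC : (P' i).map φ *ᵥ ev (Cm j *ᵥ Pi.single l 1) = 0 := by
          rw [← hev, Matrix.mulVec_mulVec,
            show P' i * Cm j = 0 by simp only [Cm, tA, mul_sub, mul_smul_comm, mul_one, hsol i j, sub_self],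
            Matrix.zero_mulVec]
          exact funext fun p => map_zero φ
        simp only [rel, Sum.elim_inl, hPC, Matrix.mulVec_zero, map_zero]
      · have hPC : (P' i).map φ *ᵥ ev (cv l) = 0 := by
          rw [← hev, show P' i *ᵥ cv l = fun p => (P' i * D') p l from funext fun p => rfl, hPD i]
          exact funext fun p => map_zero φ
        simp only [rel, Sum.elim_inr, hPC, Matrix.mulVec_zero, map_zero]
    · have hmono : ∀ {z : Fin n → S}, z ∈ J ^ e • (⊤ : Submodule S (Fin n → S)) → π z ∈ J ^ e₁ • (⊤ : Submodule S Mb) :=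
        fun {z} hz => by
          refine Submodule.smul_mono (Ideal.pow_le_pow_right (show e₁ ≤ e by omega)) le_top (?_ : _ ∈ J ^ e • LinearMap.range π)
          rw [← Submodule.map_top π, ← Submodule.map_smul'']
          exact Submodule.mem_map_of_mem hz
      obtain ⟨z, hz, hzw⟩ : ∃ z, π z = 0 ∧ u *ᵥ ev (rel x) - z ∈ J ^ e • (⊤ : Submodule S (Fin n → S)) := by
        rcases x with ⟨j, l⟩ | l
        · refine ⟨(tS j • 1 - Pb j) *ᵥ Pi.single l 1, ?_, ?_⟩
          · rw [Matrix.sub_mulVec, Matrix.smul_mulVec, Matrix.one_mulVec, map_sub, map_smul, hPbv, hσ, sub_self]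
          · have hc : Cong (J ^ e) (u * ((Cm j).map φ)) (1 * (tS j • 1 - Pb j)) := by
              refine hu1.mul ?_
              rw [show (Cm j).map φ = tS j • 1 - (P' j).map φ from Matrix.ext fun p p' => by
                simp [Cm, tS, Matrix.one_apply, apply_ite φ]]
              exact (Cong.refl _).sub (hP'b e (le_max_left _ _) j)
            have h := hc.mulVec_sub_mem (Pi.single l 1)
            rw [one_mul, ← Matrix.mulVec_mulVec] at h
            have hvec : ev (rel (Sum.inl (j, l))) = (Cm j).map φ *ᵥ Pi.single l 1 := by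
              simp only [rel, Sum.elim_inl, hev]
              congr 1
              funext p
              simp [ev, Pi.single_apply, apply_ite φ]
            rw [hvec]
            exact h
        · refine ⟨Db *ᵥ Pi.single l 1, ?_, ?_⟩
          · rw [Matrix.mulVec_single_one]
            exact LinearMap.mem_ker.1 (hdv.le <| Submodule.subset_span ⟨l, rfl⟩)
          · have hc : Cong (J ^ e) (u * D'.map φ) ((1 : Matrix (Fin n) (Fin n) S) * Db) := hu1.mul hD'b
            have h := hc.mulVec_sub_mem (Pi.single l 1)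
            rw [Matrix.one_mul, ← Matrix.mulVec_mulVec, Matrix.mulVec_single_one] at h
            exact h
      have h2 := hmono hzw
      rw [map_sub, hz, sub_zero] at h2
      exact h2
  -- and generate the kernel
  let R' : Submodule S (Fin n → S) := Submodule.span S (Set.range fun x => u *ᵥ ev (rel x))
  have hR' : LinearMap.ker π ≤ R' := by
    refine Submodule.le_of_le_smul_of_le_jacobson_bot (IsNoetherian.noetherian _) hJjac ?_
    conv_lhs => rw [← hdv]
    refine Submodule.span_le.2 ?_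
    rintro _ ⟨l, rfl⟩
    have hker1 : u *ᵥ ev (cv l) ∈ LinearMap.ker π := LinearMap.mem_ker.2 (hrelS (Sum.inr l) _ rfl)
    have hc : Cong (J ^ e) (u * D'.map φ) ((1 : Matrix (Fin n) (Fin n) S) * Db) := hu1.mul hD'b
    have h := hc.mulVec_sub_mem (Pi.single l 1)
    rw [Matrix.one_mul, ← Matrix.mulVec_mulVec, Matrix.mulVec_single_one, Matrix.mulVec_single_one] at h
    have hin : dv l - u *ᵥ ev (cv l) ∈ J ^ e • (⊤ : Submodule S (Fin n → S)) ⊓ LinearMap.ker π :=
      ⟨by rw [← neg_sub]; exact neg_mem h, sub_mem (hdv.le <| Submodule.subset_span ⟨l, rfl⟩) hker1⟩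
    rw [he₂ e (by omega)] at hin
    have hin' : dv l - u *ᵥ ev (cv l) ∈ J • LinearMap.ker π :=
      Submodule.smul_mono (Ideal.pow_le_self (by omega)) inf_le_right hin
    rw [← add_sub_cancel (u *ᵥ ev (cv l)) (dv l)]
    exact add_mem (Submodule.mem_sup_left (Submodule.subset_span ⟨Sum.inr l, rfl⟩)) (Submodule.mem_sup_right hin')
  -- the comparison
  let θ₀ : (Fin n → A) →ₗ[A] (Fin n → S) := LinearMap.pi fun p => (Algebra.linearMap A S) ∘ₗ LinearMap.proj p
  letI : Module A Mb := Module.compHom Mb φ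
  haveI : IsScalarTower A S Mb := ⟨fun c z v => by
    show (c • z) • v = φ c • z • v
    rw [Algebra.smul_def, mul_smul]⟩
  let θ : M →ₗ[A] Mb := R₀.liftQ ((π ∘ₗ Matrix.toLin' u).restrictScalars A ∘ₗ θ₀) (Submodule.span_le.2 (by
    rintro _ ⟨x, rfl⟩
    exact hrelS x _ rfl))
  let Θ : S ⊗[A] M →ₗ[S] Mb := LinearMap.liftBaseChange S θ
  let Ψ₀ : (Fin n → S) →ₗ[S] S ⊗[A] M := Fintype.linearCombination S fun p => (1 : S) ⊗ₜ[A] R₀.mkQ (Pi.single p 1)
  have hΨev : ∀ v : Fin n → A, Ψ₀ (ev v) = (1 : S) ⊗ₜ[A] R₀.mkQ v := fun v => by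
    conv_rhs => rw [pi_eq_sum_univ' v]
    rw [Fintype.linearCombination_apply, map_sum, TensorProduct.tmul_sum]
    refine Finset.sum_congr rfl fun p _ => ?_
    rw [map_smul, TensorProduct.tmul_smul, ← algebraMap_smul S (v p)]
  let Ψ₁ : (Fin n → S) →ₗ[S] S ⊗[A] M := Ψ₀ ∘ₗ Matrix.toLin' u⁻¹
  have hΨ₁ : ∀ v, Ψ₁ (u *ᵥ v) = Ψ₀ v := fun v => by
    show Ψ₀ (Matrix.toLin' u⁻¹ (u *ᵥ v)) = _
    rw [Matrix.toLin'_apply, Matrix.mulVec_mulVec, Matrix.nonsing_inv_mul u hudet, Matrix.one_mulVec]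
  have hkill : LinearMap.ker π ≤ LinearMap.ker Ψ₁ := hR'.trans (Submodule.span_le.2 (by
    rintro _ ⟨x, rfl⟩
    rw [SetLike.mem_coe, LinearMap.mem_ker, hΨ₁, hΨev,
      show R₀.mkQ (rel x) = 0 from (Submodule.Quotient.mk_eq_zero _).2 (Submodule.subset_span ⟨x, rfl⟩), TensorProduct.tmul_zero]))
  let Ψ : Mb →ₗ[S] S ⊗[A] M := (LinearMap.ker π).liftQ Ψ₁ hkill ∘ₗ (π.quotKerEquivOfSurjective hπ).symm.toLinearMap
  have hΨ : ∀ v, Ψ (π v) = Ψ₁ v := fun v => by
    simp only [Ψ, LinearMap.comp_apply, LinearEquiv.coe_coe]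
    rw [show (π.quotKerEquivOfSurjective hπ).symm (π v) = Submodule.Quotient.mk v from
      (π.quotKerEquivOfSurjective hπ).injective (by simp), Submodule.liftQ_apply]
  have h21 : Ψ ∘ₗ Θ = LinearMap.id := by
    refine TensorProduct.AlgebraTensorModule.curry_injective (LinearMap.ext_ring ?_)
    refine Submodule.linearMap_qext _ (LinearMap.ext fun v => ?_)
    show Ψ (Θ ((1 : S) ⊗ₜ[A] R₀.mkQ v)) = (1 : S) ⊗ₜ[A] R₀.mkQ v
    rw [LinearMap.liftBaseChange_one_tmul]
    show Ψ (π (u *ᵥ ev v)) = _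
    rw [hΨ, hΨ₁, hΨev]
  have hsurj : Function.Surjective Θ := fun z => by
    obtain ⟨v, rfl⟩ := hπ z
    have hv : v = u *ᵥ (u⁻¹ *ᵥ v) := by
      rw [Matrix.mulVec_mulVec, Matrix.mul_nonsing_inv u hudet, Matrix.one_mulVec]
    refine ⟨Ψ₀ (u⁻¹ *ᵥ v), ?_⟩
    conv_rhs => rw [hv, pi_eq_sum_univ' (u⁻¹ *ᵥ v)]
    simp only [Ψ₀, Fintype.linearCombination_apply, map_sum, map_smul, Matrix.mulVec_sum, Matrix.mulVec_smul]
    refine Finset.sum_congr rfl fun p _ => ?_
    rw [LinearMap.liftBaseChange_one_tmul]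
    show _ • π (u *ᵥ ev (Pi.single p 1)) = _
    congr 3
    funext p'
    simp [ev, Pi.single_apply, apply_ite φ]
  refine ⟨M, inferInstance, inferInstance, inferInstance, inferInstance,
    ⟨LinearEquiv.ofBijective Θ ⟨Function.LeftInverse.injective (g := Ψ) (LinearMap.congr_fun h21), hsurj⟩⟩, fun q₁ hq => ?_⟩
  obtain ⟨i, hi⟩ : ∃ i, tA i ∉ q₁.asIdeal := by
    by_contra! hc
    refine hq (fun z hz => q₁.isPrime.mem_of_pow_mem k' ?_)
    exact (Ideal.span_le.2 (by rintro _ ⟨i, rfl⟩; exact hc i) : tI A t ≤ q₁.asIdeal) (hk' (Ideal.pow_mem_pow hz k'))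
  let σi : M →ₗ[A] (Fin n → A) := R₀.liftQ (Matrix.toLin' (P' i)) (Submodule.span_le.2 (by
    rintro _ ⟨⟨j, l⟩ | l, rfl⟩ <;> rw [SetLike.mem_coe, LinearMap.mem_ker, Matrix.toLin'_apply]
    · simp only [rel, Sum.elim_inl, Matrix.mulVec_mulVec, Cm, tA, mul_sub, mul_smul_comm, mul_one, hsol i j, sub_self,
        Matrix.zero_mulVec]
    · simp only [rel, Sum.elim_inr]
      rw [show P' i *ᵥ cv l = fun p => (P' i * D') p l from funext fun p => rfl, hPD i]
      rfl))
  refine ⟨n, R₀.mkQ, σi, tA i, R₀.mkQ_surjective, hi, Submodule.linearMap_qext _ (LinearMap.ext fun v => ?_)⟩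
  show R₀.mkQ (P' i *ᵥ v) = tA i • R₀.mkQ v
  rw [← map_smul, Submodule.mkQ_apply, Submodule.mkQ_apply, eq_comm, Submodule.Quotient.eq,
    show tA i • v - P' i *ᵥ v = Cm i *ᵥ v by simp [Cm, Matrix.sub_mulVec, Matrix.smul_mulVec]]
  rw [pi_eq_sum_univ' v, Matrix.mulVec_sum]
  refine Submodule.sum_mem _ fun p _ => ?_
  rw [Matrix.mulVec_smul]
  exact Submodule.smul_mem _ _ (Submodule.subset_span ⟨Sum.inl (i, p), rfl⟩)

end Groth.Agent.ElkikMod27
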