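import Groth.Agent.Lib.ElkikMod27.Basic
import Mathlib.RingTheory.Nilpotent.Lemmas
import Mathlib.LinearAlgebra.TensorProduct.Quotient
import Mathlib.RingTheory.Flat.Stability

/-!
# Approximation of projector systems
-/

set_option autoImplicit false
set_option linter.style.haveILetI false

universe u

open Matrix
open scoped TensorProduct

namespace Groth.Agent.ElkikMod27

variable {A : Type u} [CommRing A]

/-- Entrywise congruence modulo an ideal. -/
def Cong (J : Ideal A) {a b : Type} (X Y : Matrix a b A) : Prop := ∀ i j, X i j - Y i j ∈ J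

variable {J J' : Ideal A} {a b m : Type}

theorem Cong.refl (X : Matrix a b A) : Cong J X X := fun i j => by simp

theorem Cong.symm {X Y : Matrix a b A} (h : Cong J X Y) : Cong J Y X := fun i j => by
  rw [← neg_sub]; exact neg_mem (h i j)

theorem Cong.trans {X Y Z : Matrix a b A} (h : Cong J X Y) (h' : Cong J Y Z) : Cong J X Z := fun i j => by
  rw [← sub_add_sub_cancel _ (Y i j)]; exact add_mem (h i j) (h' i j)

theorem Cong.mono {X Y : Matrix a b A} (h : Cong J X Y) (hJ : J ≤ J') : Cong J' X Y := fun i j => hJ (h i j)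

theorem Cong.sub {X Y X' Y' : Matrix a b A} (h : Cong J X Y) (h' : Cong J X' Y') : Cong J (X - X') (Y - Y') :=
  fun i j => by
    rw [Matrix.sub_apply, Matrix.sub_apply, sub_sub_sub_comm]; exact sub_mem (h i j) (h' i j)

theorem Cong.smul {X Y : Matrix a b A} (h : Cong J X Y) (s : A) : Cong J (s • X) (s • Y) := fun i j => by
  rw [Matrix.smul_apply, Matrix.smul_apply, smul_eq_mul, smul_eq_mul, ← mul_sub]; exact Ideal.mul_mem_left _ _ (h i j)

theorem Cong.mul [Fintype m] {X X' : Matrix a m A} {Y Y' : Matrix m b A} (h : Cong J X X') (h' : Cong J Y Y') :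
    Cong J (X * Y) (X' * Y') := fun i j => by
  rw [Matrix.mul_apply, Matrix.mul_apply, ← Finset.sum_sub_distrib]
  refine Ideal.sum_mem _ fun k _ => ?_
  rw [show X i k * Y k j - X' i k * Y' k j = (X i k - X' i k) * Y k j + X' i k * (Y k j - Y' k j) by ring]
  exact add_mem (Ideal.mul_mem_right _ _ (h i k)) (Ideal.mul_mem_left _ _ (h' k j))

theorem Cong.exists_smul {s : A} {X Y : Matrix a b A} (h : Cong (Ideal.span {s}) X Y) :
    ∃ W : Matrix a b A, X = Y + s • W := by
  choose w hw using fun i j => Ideal.mem_span_singleton'.1 (h i j)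
  refine ⟨Matrix.of w, Matrix.ext fun i j => ?_⟩
  rw [Matrix.add_apply, Matrix.smul_apply, Matrix.of_apply, smul_eq_mul, mul_comm, hw, add_sub_cancel]

theorem cong_add_smul (s : A) (Y W : Matrix a b A) : Cong (Ideal.span {s}) (Y + s • W) Y := fun i j => by
  rw [Matrix.add_apply, Matrix.smul_apply, add_sub_cancel_left, smul_eq_mul]
  exact Ideal.mul_mem_right _ _ (Ideal.mem_span_singleton_self s)

theorem cong_iff_map_eq {X Y : Matrix a b A} :
    Cong J X Y ↔ X.map (Ideal.Quotient.mk J) = Y.map (Ideal.Quotient.mk J) := by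
  rw [← Matrix.ext_iff]
  exact forall₂_congr fun i j => Ideal.Quotient.eq.symm

variable {ι : Type} {n : ℕ} {κ : Type}

/-- A projector system. -/
def Sol (t : ι → A) (P : ι → Matrix (Fin n) (Fin n) A) : Prop := ∀ i j, P i * P j = t j • P i

theorem eq_zero_of_cong {t : A} {c s l : ℕ} (ht : BddTors t c) (hs : c ≤ s) {X : Matrix a b A}
    (h : Cong (Ideal.span {t ^ s}) X 0) (hl : t ^ l • X = 0) : X = 0 := by
  obtain ⟨W, hW⟩ := h.exists_smul
  exact eq_zero_of_smul ht hl (hW.trans (zero_add _)) hs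

/-- One step of the approximation: solving exactly from a solution modulo a power of one `t r`. -/
theorem sol_step (I : Ideal A) [hI : HenselianRing A I] (t : ι → A) (r : ι) (hr : t r ∈ I) {c : ℕ}
    (hc : BddTors (t r) c) (e : ℕ) (P : ι → Matrix (Fin n) (Fin n) A) (D : Matrix (Fin n) κ A)
    (hP : ∀ i j, Cong (Ideal.span {t r ^ (c + e + 3 + 2 + c)}) (P i * P j) (t j • P i))
    (hD : ∀ i, Cong (Ideal.span {t r ^ (c + e + 3 + 2 + c)}) (P i * D) 0) :
    ∃ (P' : ι → Matrix (Fin n) (Fin n) A) (D' : Matrix (Fin n) κ A), Sol t P' ∧ (∀ i, P' i * D' = 0) ∧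
      (∀ i, Cong (Ideal.span {t r ^ e}) (P' i) (P i)) ∧ Cong (Ideal.span {t r ^ e}) D' D := by
  classical
  have hle : ∀ {p q : ℕ}, p ≤ q → Ideal.span {t r ^ q} ≤ Ideal.span {t r ^ p} := fun h =>
    Ideal.span_singleton_le_span_singleton.2 (pow_dvd_pow _ h)
  obtain ⟨W₀, hW₀⟩ := (hP r r).exists_smul
  obtain ⟨Q, Y, hQ, hQP⟩ := exists_projector I hr hc (c + e + 3) (by omega) (P r) W₀ (by rw [hW₀]; abel)
  let P₁ := Function.update P r Q
  have hP₁ : ∀ i, Cong (Ideal.span {t r ^ (c + e + 3)}) (P₁ i) (P i) := fun i => by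
    by_cases h : i = r
    · subst h; simp only [P₁, Function.update_self, hQP]; exact cong_add_smul _ _ _
    · simp only [P₁, Function.update_of_ne h]; exact Cong.refl _
  have hQ₁ : Cong (Ideal.span {t r ^ (c + e + 3)}) Q (P r) := by simpa [P₁] using hP₁ r
  have hF : ∀ i j, Cong (Ideal.span {t r ^ (c + e + 3)}) (P₁ i * P₁ j) (t j • P₁ i) := fun i j =>
    ((hP₁ i).mul (hP₁ j)).trans (((hP i j).mono (hle (by omega))).trans ((hP₁ i).symm.smul _))
  have hE : ∀ i, Cong (Ideal.span {t r ^ (c + e + 3)}) (P₁ i * D) 0 := fun i =>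
    ((hP₁ i).mul (Cong.refl _)).trans ((hD i).mono (hle (by omega)))
  have hQr : P₁ r = Q := Function.update_self ..
  choose W₁ hW₁ using fun i => (hF i r).exists_smul
  choose W₂ hW₂ using fun i => (hF r i).exists_smul
  obtain ⟨W₃, hW₃⟩ := (hE r).exists_smul
  simp only [hQr] at hW₁ hW₂ hW₃
  let R : ι → Matrix (Fin n) (Fin n) A := fun i => (t r * t i) • Q + (t r • 1 - Q) * P₁ i * Q
  let P' : ι → Matrix (Fin n) (Fin n) A := fun i => P₁ i + t r ^ (c + e + 1) • (t r • W₁ i - W₂ i * Q)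
  let D' : Matrix (Fin n) κ A := D - t r ^ (c + e + 2) • W₃
  have hpow1 : t r ^ 2 * t r ^ (c + e + 1) = t r ^ (c + e + 3) := by rw [← pow_add]; congr 1; omega
  have hpow2 : t r * t r ^ (c + e + 2) = t r ^ (c + e + 3) := by rw [← pow_succ']
  have hRP : ∀ i, t r ^ 2 • P' i = R i := fun i => by
    simp only [P', R, smul_add, smul_smul, hpow1]
    simp only [sub_mul, smul_mul_assoc, one_mul, hW₁ i, hW₂ i, add_mul, hQ, smul_add, smul_sub, smul_smul]
    module
  have hDD : t r • D' = (t r • 1 - Q) * D := by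
    simp only [D', smul_sub, smul_smul, hpow2, Matrix.sub_mul, Matrix.smul_mul, Matrix.one_mul, hW₃, zero_add]
  have hQ0 : Q * (t r • 1 - Q) = 0 := by rw [mul_sub, mul_smul_comm, mul_one, hQ, sub_self]
  have hRR : ∀ i j, R i * R j = (t r ^ 2 * t j) • R i := fun i j => by
    have h1 : Q * R j = (t r ^ 2 * t j) • Q := by
      simp only [R, mul_add, mul_smul_comm, hQ, ← mul_assoc, hQ0, zero_mul, add_zero, smul_smul]
      module
    simp only [R, add_mul, smul_mul_assoc, mul_assoc] at h1 ⊢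
    rw [h1]
    simp only [smul_add, mul_smul_comm, smul_smul]
    module
  have hclose : ∀ i, Cong (Ideal.span {t r ^ (c + e + 1)}) (P' i) (P₁ i) := fun i => cong_add_smul _ _ _
  have hDclose : Cong (Ideal.span {t r ^ (c + e + 1)}) D' D := fun i j => by
    simp only [D', Matrix.sub_apply, Matrix.smul_apply, smul_eq_mul]
    rw [sub_sub_cancel_left]
    exact neg_mem (Ideal.mul_mem_right _ _ (hle (by omega) (Ideal.mem_span_singleton_self _)))
  refine ⟨P', D', fun i j => ?_, fun i => ?_, fun i => ?_, hDclose.mono (hle (by omega))⟩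
  · refine sub_eq_zero.1 (eq_zero_of_cong hc (s := c + e + 1) (l := 4) (by omega) ?_ ?_)
    · have h := (((hclose i).mul (hclose j)).trans (((hF i j).mono (hle (by omega))).trans
        ((hclose i).symm.smul (t j))))
      intro p q
      simpa [Matrix.sub_apply] using h p q
    · have h : R i * R j = (t r ^ 4) • (P' i * P' j) := by
        rw [← hRP, ← hRP, smul_mul_assoc, mul_smul_comm, smul_smul, ← pow_add]
      rw [smul_sub, ← h, hRR, ← hRP, smul_smul, smul_smul, sub_eq_zero]
      congr 1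
      ring
  · refine eq_zero_of_cong hc (s := c + e + 1) (l := 3) (by omega)
      (((hclose i).mul hDclose).trans ((hE i).mono (hle (by omega)))) ?_
    rw [pow_succ, mul_smul, ← Matrix.mul_smul, ← Matrix.smul_mul, hRP, hDD, ← Matrix.mul_assoc]
    have h1 : R i * (t r • 1 - Q) = 0 := by
      simp only [R, add_mul, smul_mul_assoc, mul_assoc, hQ0, mul_zero, smul_zero, add_zero]
    rw [h1, Matrix.zero_mul]
  · exact ((hclose i).mono (hle (by omega))).trans ((hP₁ i).mono (hle (by omega)))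

/-- One step of the conjugation. -/
theorem conj_step (t : ι → A) (r : ι) {c : ℕ} (hc : BddTors (t r) c) (e : ℕ)
    (P P' : ι → Matrix (Fin n) (Fin n) A) (hP : Sol t P) (hP' : Sol t P') (u₀ : Matrix (Fin n) (Fin n) A)
    (h : ∀ i j, Cong (Ideal.span {t r ^ (c + e + 2)}) (P' i * u₀ * (t j • 1 - P j)) 0) :
    ∃ u : Matrix (Fin n) (Fin n) A, (∀ i j, P' i * u * (t j • 1 - P j) = 0) ∧ Cong (Ideal.span {t r ^ e}) u u₀ := by
  have hle : ∀ {p q : ℕ}, p ≤ q → Ideal.span {t r ^ q} ≤ Ideal.span {t r ^ p} := fun h =>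
    Ideal.span_singleton_le_span_singleton.2 (pow_dvd_pow _ h)
  obtain ⟨W, hW⟩ := (h r r).exists_smul
  rw [zero_add] at hW
  let u := u₀ - t r ^ (c + e) • W
  have hu : Cong (Ideal.span {t r ^ (c + e)}) u u₀ := fun i j => by
    simp only [u, Matrix.sub_apply, Matrix.smul_apply, smul_eq_mul]
    rw [sub_sub_cancel_left]
    exact neg_mem (Ideal.mul_mem_right _ _ (Ideal.mem_span_singleton_self _))
  refine ⟨u, fun i j => ?_, hu.mono (hle (by omega))⟩
  refine eq_zero_of_cong hc (s := c + e) (l := 2) (by omega)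
    ((((Cong.refl _).mul hu).mul (Cong.refl _)).trans ((h i j).mono (hle (by omega)))) ?_
  have h2 : t r ^ 2 • u = t r ^ 2 • u₀ - P' r * u₀ * (t r • 1 - P r) := by
    simp only [u, smul_sub, smul_smul, hW, ← pow_add, Nat.add_comm 2 (c + e)]
  have h3 : (t r • 1 - P r) * (t j • 1 - P j) = t r • (t j • 1 - P j) := by
    simp only [sub_mul, mul_sub, smul_mul_assoc, mul_smul_comm, one_mul, mul_one, hP r j, smul_sub]
    module
  have h4 : P' i * (t r • 1 - P' r) = 0 := by rw [mul_sub, mul_smul_comm, mul_one, hP', sub_self]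
  generalize t j • (1 : Matrix (Fin n) (Fin n) A) - P j = C at h3 ⊢
  calc t r ^ 2 • (P' i * u * C) = P' i * (t r ^ 2 • u) * C := by
        rw [mul_smul_comm, smul_mul_assoc]
    _ = t r • (P' i * (t r • 1 - P' r) * (u₀ * C)) := by
        rw [h2, mul_sub, sub_mul, mul_smul_comm, smul_mul_assoc, ← mul_assoc (P' i), ← mul_assoc (P' i),
          mul_assoc _ (t r • 1 - P r), h3]
        simp only [mul_sub, sub_mul, mul_smul_comm, smul_mul_assoc, mul_one, smul_sub, smul_smul, pow_two, mul_assoc]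
    _ = 0 := by rw [h4, zero_mul, smul_zero]

/-- The ideal generated by the images of `t`. -/
abbrev tI {A₀ : Type u} [CommRing A₀] (A : Type u) [CommRing A] [Algebra A₀ A] (t : ι → A₀) : Ideal A :=
  Ideal.span (Set.range fun i => algebraMap A₀ A (t i))

variable [Fintype ι]

theorem exists_pow_tI_eq_bot {A₀ : Type u} [CommRing A₀] (A : Type u) [CommRing A] [Algebra A₀ A] (t : ι → A₀)
    (h : ∀ l, IsNilpotent (t l)) : ∃ N, tI A t ^ N = ⊥ := by
  obtain ⟨N, hN⟩ := (Ideal.FG.isNilpotent_iff_le_nilradical (Submodule.fg_span (Set.finite_range _))).2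
    (Ideal.span_le.2 (by rintro _ ⟨l, rfl⟩; exact mem_nilradical.2 ((h l).map (algebraMap A₀ A))))
  exact ⟨N, hN⟩

theorem pow_le_tI {A₀ : Type u} [CommRing A₀] [Algebra A₀ A] (t : ι → A₀) (r : ι) {e K : ℕ} (h : e ≤ K) :
    Ideal.span {algebraMap A₀ A (t r) ^ K} ≤ tI A t ^ e :=
  (Ideal.span_singleton_le_iff_mem _).2
    (Ideal.pow_le_pow_right h (Ideal.pow_mem_pow (Ideal.subset_span (Set.mem_range_self r)) K))

theorem henselianRing_quotient (I J : Ideal A) [hI : HenselianRing A I] :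
    HenselianRing (A ⧸ J) (I.map (Ideal.Quotient.mk J)) :=
  Hens.henselianRing_of_isIntegral (B := A ⧸ J) hI

theorem exists_sol_aux (s : Finset ι) : ∀ (A₀ A : Type u) [CommRing A₀] [IsNoetherianRing A₀] [CommRing A]
    [Algebra A₀ A] [Module.Flat A₀ A] (t : ι → A₀) [HenselianRing A (tI A t)], (∀ l ∉ s, IsNilpotent (t l)) →
    ∀ (n : ℕ) (κ : Type) (e : ℕ), ∃ N : ℕ, ∀ (P : ι → Matrix (Fin n) (Fin n) A) (D : Matrix (Fin n) κ A),
      (∀ i j, Cong (tI A t ^ N) (P i * P j) (algebraMap A₀ A (t j) • P i)) →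
      (∀ i, Cong (tI A t ^ N) (P i * D) 0) →
      ∃ (P' : ι → Matrix (Fin n) (Fin n) A) (D' : Matrix (Fin n) κ A), Sol (fun i => algebraMap A₀ A (t i)) P' ∧
        (∀ i, P' i * D' = 0) ∧ (∀ i, Cong (tI A t ^ e) (P' i) (P i)) ∧ Cong (tI A t ^ e) D' D := by
  classical
  induction s using Finset.induction with
  | empty =>
    intro A₀ A _ _ _ _ _ t _ hnil n κ e
    obtain ⟨N, hN⟩ := exists_pow_tI_eq_bot A t fun l => hnil l (Finset.notMem_empty l)
    have h0 : ∀ {a b : Type} {X Y : Matrix a b A}, Cong (tI A t ^ N) X Y → X = Y := fun h => Matrix.ext fun i j => by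
      have := h i j
      rwa [hN, Ideal.mem_bot, sub_eq_zero] at this
    exact ⟨N, fun P D hP hD => ⟨P, D, fun i j => h0 (hP i j), fun i => h0 (hD i), fun i => Cong.refl _, Cong.refl _⟩⟩
  | insert r s hrs ih =>
    intro A₀ A _ _ _ _ _ t _ hnil n κ e
    obtain ⟨c, hc⟩ := exists_bddTors (A := A) (t r)
    let K := c + e + 3 + 2 + c
    let J₀ : Ideal A₀ := Ideal.span {t r ^ K}
    let J : Ideal A := J₀.map (algebraMap A₀ A)
    have hJ : J = Ideal.span {algebraMap A₀ A (t r) ^ K} := by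
      simp only [J, J₀, Ideal.map_span, Set.image_singleton, map_pow]
    let q := Ideal.Quotient.mk J
    letI : Algebra (A₀ ⧸ J₀) (A ⧸ J) := (Ideal.quotientMap J (algebraMap A₀ A) Ideal.le_comap_map).toAlgebra
    haveI : IsScalarTower A₀ (A₀ ⧸ J₀) (A ⧸ J) := IsScalarTower.of_algebraMap_eq fun _ => rfl
    haveI : Module.Flat (A₀ ⧸ J₀) (A ⧸ J) := by
      let e₀ : (A₀ ⧸ J₀) ⊗[A₀] A ≃ₗ[A₀] A ⧸ J :=
        ((TensorProduct.quotTensorEquivQuotSMul A J₀).trans (Submodule.quotEquivOfEq _
          ((J₀.map (algebraMap A₀ A)).restrictScalars A₀) (Ideal.smul_top_eq_map J₀))).trans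
          (Submodule.Quotient.restrictScalarsEquiv A₀ (J₀.map (algebraMap A₀ A)))
      exact Module.Flat.of_linearEquiv (e₀.extendScalarsOfSurjective (S := A₀ ⧸ J₀) Ideal.Quotient.mk_surjective).symm
    let t' : ι → A₀ ⧸ J₀ := fun i => Ideal.Quotient.mk J₀ (t i)
    have htI : tI (A ⧸ J) t' = (tI A t).map q := by
      rw [Ideal.map_span, ← Set.range_comp]; rfl
    haveI : HenselianRing (A ⧸ J) (tI (A ⧸ J) t') := htI ▸ henselianRing_quotient (tI A t) J
    obtain ⟨N, hN⟩ := ih (A₀ ⧸ J₀) (A ⧸ J) t' (fun l hl => by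
      by_cases h : l = r
      · subst h
        exact ⟨K, by
          rw [← map_pow, Ideal.Quotient.eq_zero_iff_mem]; exact Ideal.mem_span_singleton_self _⟩
      · exact (hnil l (by simp [h, hl])).map _) n κ e
    refine ⟨N, fun P D hP hD => ?_⟩
    have hmap : ∀ {p : ℕ} {a b : Type} {X Y : Matrix a b A}, Cong (tI A t ^ p) X Y →
        Cong (tI (A ⧸ J) t' ^ p) (X.map q) (Y.map q) := fun {p a b X Y} h i j => by
      rw [htI, ← Ideal.map_pow, Matrix.map_apply, Matrix.map_apply, ← map_sub]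
      exact Ideal.mem_map_of_mem q (h i j)
    have hsm : ∀ {a b : Type} (x : A₀) (X : Matrix a b A),
        algebraMap (A₀ ⧸ J₀) (A ⧸ J) (Ideal.Quotient.mk J₀ x) • X.map q = (algebraMap A₀ A x • X).map q :=
      fun x X => Matrix.ext fun i j => by
        simp only [Matrix.smul_apply, Matrix.map_apply, smul_eq_mul, map_mul]
        rfl
    obtain ⟨Pb, Db, hPb, hDb, hPc, hDc⟩ := hN (fun i => (P i).map q) (D.map q)
      (fun i j => by rw [← Matrix.map_mul, hsm]; exact hmap (hP i j))
      (fun i => by rw [← Matrix.map_mul, ← Matrix.map_zero q (map_zero q)]; exact hmap (hD i))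
    choose P₁ hP₁ using fun i => (⟨(Pb i).map (Function.surjInv Ideal.Quotient.mk_surjective), Matrix.ext fun p p' =>
      Function.surjInv_eq Ideal.Quotient.mk_surjective _⟩ : ∃ X : Matrix (Fin n) (Fin n) A, X.map q = Pb i)
    obtain ⟨D₁, hD₁⟩ : ∃ X : Matrix (Fin n) κ A, X.map q = Db :=
      ⟨Db.map (Function.surjInv Ideal.Quotient.mk_surjective), Matrix.ext fun p p' =>
        Function.surjInv_eq Ideal.Quotient.mk_surjective _⟩
    have hback : ∀ {a b : Type} {X Y : Matrix a b A}, X.map q = Y.map q →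
        Cong (Ideal.span {algebraMap A₀ A (t r) ^ K}) X Y := fun h => hJ ▸ cong_iff_map_eq.2 h
    have hr : algebraMap A₀ A (t r) ∈ tI A t := Ideal.subset_span ⟨r, rfl⟩
    obtain ⟨P', D', hs', hd', hPc', hDc'⟩ := sol_step (tI A t) (fun i => algebraMap A₀ A (t i)) r hr hc e P₁ D₁
      (fun i j => hback (by rw [Matrix.map_mul, hP₁, hP₁, hPb i j, ← hsm, hP₁]))
      (fun i => hback (by rw [Matrix.map_mul, hP₁, hD₁, hDb i, Matrix.map_zero q (map_zero q)]))
    have hdesc : ∀ {a b : Type} {X Y : Matrix a b A}, Cong (tI (A ⧸ J) t' ^ e) (X.map q) (Y.map q) →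
        Cong (tI A t ^ e) X Y := fun {a b X Y} h i j => by
      have h' := h i j
      rw [htI, ← Ideal.map_pow, Matrix.map_apply, Matrix.map_apply, ← map_sub, ← Ideal.mem_comap,
        Ideal.comap_map_of_surjective' _ Ideal.Quotient.mk_surjective, Ideal.mk_ker, hJ] at h'
      exact (show tI A t ^ e ⊔ _ ≤ tI A t ^ e from sup_le le_rfl (pow_le_tI t r (show e ≤ K by omega))) h'
    refine ⟨P', D', hs', hd', fun i => ?_, ?_⟩
    · exact ((hPc' i).mono (pow_le_tI t r le_rfl)).trans (hdesc (by rw [hP₁]; exact hPc i))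
    · exact (hDc'.mono (pow_le_tI t r le_rfl)).trans (hdesc (by rw [hD₁]; exact hDc))

theorem exists_conj_aux (s : Finset ι) : ∀ (A : Type u) [CommRing A] [IsNoetherianRing A] (t : ι → A),
    (∀ l ∉ s, IsNilpotent (t l)) → ∀ (n : ℕ) (e : ℕ), ∃ N : ℕ, ∀ (P P' : ι → Matrix (Fin n) (Fin n) A),
      Sol t P → Sol t P' → (∀ i, Cong (tI A t ^ N) (P i) (P' i)) →
      ∃ u : Matrix (Fin n) (Fin n) A, (∀ i j, P' i * u * (t j • 1 - P j) = 0) ∧ Cong (tI A t ^ e) u 1 := by
  classical
  induction s using Finset.induction with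
  | empty =>
    intro A _ _ t hnil n e
    obtain ⟨N, hN⟩ := exists_pow_tI_eq_bot A t fun l => hnil l (Finset.notMem_empty l)
    refine ⟨N, fun P P' hP hP' h => ⟨1, fun i j => ?_, Cong.refl _⟩⟩
    have hij : P j = P' j := Matrix.ext fun p q => by
      have := h j p q
      rwa [hN, Ideal.mem_bot, sub_eq_zero] at this
    rw [mul_one, hij, mul_sub, mul_smul_comm, mul_one, hP', sub_self]
  | insert r s hrs ih =>
    intro A _ _ t hnil n e
    obtain ⟨c, hc⟩ := exists_bddTors (A := A) (t r)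
    simp only [Algebra.algebraMap_self, RingHom.id_apply] at hc
    let K := c + e + 2
    let J : Ideal A := Ideal.span {t r ^ K}
    let q := Ideal.Quotient.mk J
    let t' : ι → A ⧸ J := fun i => q (t i)
    have htI : tI (A ⧸ J) t' = (tI A t).map q := by
      rw [Ideal.map_span, ← Set.range_comp]; rfl
    have hsm : ∀ {a b : Type} (x : A) (X : Matrix a b A), q x • X.map q = (x • X).map q :=
      fun x X => Matrix.ext fun i j => by simp [Matrix.smul_apply, Matrix.map_apply]
    obtain ⟨N, hN⟩ := ih (A ⧸ J) t' (fun l hl => by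
      by_cases h : l = r
      · subst h
        exact ⟨K, by rw [← map_pow, Ideal.Quotient.eq_zero_iff_mem]; exact Ideal.mem_span_singleton_self _⟩
      · exact (hnil l (by simp [h, hl])).map _) n e
    refine ⟨N, fun P P' hP hP' h => ?_⟩
    obtain ⟨ub, hub, hu1⟩ := hN (fun i => (P i).map q) (fun i => (P' i).map q)
      (fun i j => by rw [← Matrix.map_mul, hP i j, ← hsm])
      (fun i j => by rw [← Matrix.map_mul, hP' i j, ← hsm])
      (fun i p p' => by
        rw [htI, ← Ideal.map_pow, Matrix.map_apply, Matrix.map_apply, ← map_sub]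
        exact Ideal.mem_map_of_mem q (h i p p'))
    obtain ⟨u₀, rfl⟩ : ∃ X : Matrix (Fin n) (Fin n) A, X.map q = ub :=
      ⟨ub.map (Function.surjInv Ideal.Quotient.mk_surjective), Matrix.ext fun p p' =>
        Function.surjInv_eq Ideal.Quotient.mk_surjective _⟩
    have hC : ∀ j, (t' j) • (1 : Matrix (Fin n) (Fin n) (A ⧸ J)) - (P j).map q = (t j • 1 - P j).map q := fun j => by
      rw [← Matrix.map_one q (map_zero q) (map_one q), hsm]
      exact Matrix.ext fun p p' => (map_sub q _ _).symm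
    obtain ⟨u, hu, huc⟩ := conj_step t r hc e P P' hP hP' u₀ fun i j => cong_iff_map_eq.2 (by
      rw [Matrix.map_mul, Matrix.map_mul, ← hC, hub, Matrix.map_zero q (map_zero q)])
    refine ⟨u, hu, (huc.mono ?_).trans fun p p' => ?_⟩
    · exact (Ideal.span_singleton_le_iff_mem _).2 (Ideal.pow_mem_pow (Ideal.subset_span (Set.mem_range_self r)) e)
    · have h' := hu1 p p'
      rw [← Matrix.map_one q (map_zero q) (map_one q), htI, ← Ideal.map_pow, Matrix.map_apply, Matrix.map_apply, ← map_sub,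
        ← Ideal.mem_comap, Ideal.comap_map_of_surjective' _ Ideal.Quotient.mk_surjective, Ideal.mk_ker] at h'
      refine (show tI A t ^ e ⊔ Ideal.span {t r ^ K} ≤ tI A t ^ e from
        sup_le le_rfl ((Ideal.span_singleton_le_iff_mem _).2 ?_)) h'
      exact Ideal.pow_le_pow_right (show e ≤ K by omega) (Ideal.pow_mem_pow (Ideal.subset_span (Set.mem_range_self r)) K)

end Groth.Agent.ElkikMod27
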